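import Groth.Agent.Lib.CurveMult.HurwitzOver
import Groth.Agent.Lib.CurveMult.DivIso
import Groth.Agent.Lib.CurveMult.IdealDiv
import Groth.Agent.Lib.CurveMult.InvolutionCurve
import Groth.Agent.Lib.QuadSubfield28.Sch
import Groth.Agent.S7640

/-!
# Sections of the pullback of a divisor sheaf
-/

set_option autoImplicit false
set_option linter.style.haveILetI false
set_option backward.isDefEq.respectTransparency false

universe u

open CategoryTheory CategoryTheory.Limits AlgebraicGeometry TopologicalSpace WithZero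
open GrothLib GrothLib.CurveRR GrothLib.CurveMult
open _root_.FunFld (Divisor)

noncomputable section

namespace GrothLib.KummerCov28

variable (k : Type u) [Field k] {X Y : Scheme.{u}} [IsIntegral X] [IsIntegral Y] [RegCurve X] [RegCurve Y]
  [X.Over (Spec (CommRingCat.of k))] [Y.Over (Spec (CommRingCat.of k))]
  [IsProper (X ↘ Spec (CommRingCat.of k))] [IsProper (Y ↘ Spec (CommRingCat.of k))]
  {f : X ⟶ Y} [IsFinite f] (e : f (genericPoint X) = genericPoint Y)
  (hf : f ≫ (Y ↘ Spec (CommRingCat.of k)) = X ↘ Spec (CommRingCat.of k))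

include hf in
theorem bound_ψ (D : Divisor k Y.functionField) (x : CP X) (g : Y.functionField)
    (hg : (place k (⟨f x.1, Hurwitz.ne_genericPoint x.2⟩ : CP Y)).1 g ≤
      exp (D (place k (⟨f x.1, Hurwitz.ne_genericPoint x.2⟩ : CP Y)))) :
    (place k x).1 (Hurwitz.ψ e g) ≤
      exp ((letI := (Hurwitz.ψ e).toAlgebra; _root_.FunFld.conorm X.functionField D) (place k x)) := by
  letI := (Hurwitz.ψ e).toAlgebra
  haveI : IsScalarTower k Y.functionField X.functionField :=
    .of_algebraMap_eq fun c => (Hurwitz.ψ_algebraMap k e hf c).symm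
  haveI := Hurwitz.finiteDimensional k e hf
  have hov := Hurwitz.isOverWith_place k e hf x
  rw [FunFld.conorm_apply (isFG k) hov,
    show (place k x).1 (Hurwitz.ψ e g) = _ from hov g]
  refine (pow_le_pow_left₀ zero_le hg _).trans_eq ?_
  rw [← exp_nsmul, nsmul_eq_mul]

/-- The map `O(D) ⟶ f_* O(f^* D)`. -/
def toPush (D : Divisor k Y.functionField) :
    oD k D ⟶ (Scheme.Modules.pushforward f).obj
      (oD k (letI := (Hurwitz.ψ e).toAlgebra; _root_.FunFld.conorm X.functionField D)) :=
  ⟨PresheafOfModules.homMk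
    { app := fun V => AddCommGrpCat.ofHom
        { toFun := fun s => (oDData k (letI := (Hurwitz.ψ e).toAlgebra;
              _root_.FunFld.conorm X.functionField D)).lift
            (U := f ⁻¹ᵁ V.unop) (fun hV => Hurwitz.ψ e (oval k (V := V.unop) s (e ▸ hV.down))) fun x hx =>
              bound_ψ k e hf D x _ (oval_bound (V := V.unop) s ⟨f x.1, Hurwitz.ne_genericPoint x.2⟩ hx)
          map_zero' := oval_ext (V := f ⁻¹ᵁ V.unop) fun hV => by
            show Hurwitz.ψ e (oval k (V := V.unop) (0 : Γ(oD k D, V.unop)) _) = 0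
            rw [show oval k (V := V.unop) (0 : Γ(oD k D, V.unop)) (e ▸ hV) = 0 from rfl, map_zero]
          map_add' := fun s t => oval_ext (V := f ⁻¹ᵁ V.unop) fun hV => by
            show Hurwitz.ψ e (oval k (V := V.unop) (s + t) _) = Hurwitz.ψ e (oval k (V := V.unop) s _) +
              Hurwitz.ψ e (oval k (V := V.unop) t _)
            exact (congrArg (Hurwitz.ψ e) (oval_add (V := V.unop) s t (e ▸ hV))).trans (map_add _ _ _) }
      naturality := fun _ _ _ => rfl } fun V r s => oval_ext (V := f ⁻¹ᵁ V.unop) fun hV => by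
        show Hurwitz.ψ e (oval k (V := V.unop) (r • s) _) = _
        refine (congrArg (Hurwitz.ψ e) (oval_smul (V := V.unop) r s (e ▸ hV))).trans ((map_mul _ _ _).trans ?_)
        rw [InvolutionCurve.ψ_germ e hV (e ▸ hV)]
        rfl⟩

theorem oval_toPush (D : Divisor k Y.functionField) {V : Y.Opens} (s : Γ(oD k D, V))
    (hV : genericPoint X ∈ f ⁻¹ᵁ V) (hV' : genericPoint Y ∈ V) :
    oval k (V := f ⁻¹ᵁ V) ((toPush k e hf D).app V s) hV = Hurwitz.ψ e (oval k s hV') := rfl

include e hf in
theorem toPush_ne_zero (D : Divisor k Y.functionField) : toPush k e hf D ≠ 0 := by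
  intro h
  obtain ⟨V, g, hη, hg0, hg⟩ := exists_gen k D (genericPoint Y)
  have h1 := congrArg (fun φ => oval k (V := f ⁻¹ᵁ V) (φ.app V (mkSec k D V g fun x hx => (hg x hx).le))
    (show f (genericPoint X) ∈ V from e ▸ hη)) h
  dsimp only at h1
  rw [oval_toPush k e hf D _ _ hη, oval_mkSec] at h1
  exact hg0 ((map_eq_zero _).1 (h1.trans rfl))

include e hf in
/-- The pullback of `O(D)` is the sheaf of the conorm. -/
theorem nonempty_pullback_iso (D : Divisor k Y.functionField) :
    Nonempty ((Scheme.Modules.pullback f).obj (oD k D) ≅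
      oD k (letI := (Hurwitz.ψ e).toAlgebra; _root_.FunFld.conorm X.functionField D)) := by
  letI := (Hurwitz.ψ e).toAlgebra
  haveI : IsScalarTower k Y.functionField X.functionField :=
    .of_algebraMap_eq fun c => (Hurwitz.ψ_algebraMap k e hf c).symm
  haveI := Hurwitz.finiteDimensional k e hf
  set E := _root_.FunFld.conorm X.functionField D with hE
  have hinv := Kleiman.isInv_pullback f (isInvertible_oD k D)
  obtain ⟨D', ⟨e'⟩⟩ := exists_iso_oD k hinv
  let adj := Scheme.Modules.pullbackPushforwardAdjunction f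
  let φ : (Scheme.Modules.pullback f).obj (oD k D) ⟶ oD k E := (adj.homEquiv _ _).symm (toPush k e hf D)
  have hφ : φ ≠ 0 := fun h0 => toPush_ne_zero k e hf D (by
    have h1 : toPush k e hf D = adj.homEquiv _ _ φ := ((adj.homEquiv _ _).apply_symm_apply _).symm
    rw [h1, h0, Adjunction.homEquiv_unit, Functor.map_zero, comp_zero])
  obtain ⟨c, hc⟩ := DivIso.exists_factor k (e'.inv ≫ φ)
  have hc0 : c ≠ 0 := by
    intro h0
    apply hφ
    have h1 : e'.inv ≫ φ = 0 := Scheme.Modules.hom_ext _ _ fun V => by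
      ext s
      exact oval_ext fun hV => by rw [hc, h0, zero_mul]; rfl
    rw [← cancel_epi e'.inv, h1, comp_zero]
  have hfgX := isFG k (X := X)
  have hle : ∀ P, 0 ≤ (E - D' + _root_.FunFld.div k c) P := by
    intro P
    obtain ⟨x, rfl⟩ := place_surjective (k := k) P
    have h1 := DivIso.le_of_factor k hc x
    rw [FunFld.val_eq (place k x) hc0, ← exp_add, exp_le_exp] at h1
    rw [Finsupp.add_apply, Finsupp.sub_apply, hfgX.div_apply]
    linarith
  have hdeg : D'.deg = E.deg := by
    rw [← deg_oD D', ← Euler.deg_of_iso k e' 1, Groth.Agent.S7640.result k X Y RegCurve.dim RegCurve.dim f hf e 1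
      (oD k D) (Euler.isFinLocFreeOfRank_one' (isInvertible_oD k D)), deg_oD, hE, FunFld.deg_conorm (isFG k),
      ← QuadSubfield28.finrank_ψ f e]
  have hzero : E - D' + _root_.FunFld.div k c = 0 := by
    have hd : (E - D' + _root_.FunFld.div k c).deg = 0 := by
      rw [FunFld.deg_add, FunFld.deg_sub, hdeg, hfgX.deg_div, sub_self, add_zero]
    by_contra hne
    obtain ⟨P, hP⟩ : ∃ P, (E - D' + _root_.FunFld.div k c) P ≠ 0 := by
      by_contra h; push Not at h; exact hne (Finsupp.ext h)
    have hs : Finsupp.single P 1 ≤ E - D' + _root_.FunFld.div k c := fun R => by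
      by_cases hR : P = R
      · subst hR; rw [Finsupp.single_eq_same]; have := hle P; omega
      · rw [Finsupp.single_eq_of_ne (Ne.symm hR)]; exact hle R
    have h2 := FunFld.deg_mono hs
    rw [hd, FunFld.deg_single] at h2
    have := hfgX.deg_pos P
    omega
  obtain ⟨e''⟩ := DivIso.nonempty_iso_of_sub_mem k (D := D') (E := E)
    ((FunFld.mem_prinDivs_iff hfgX _).2 ⟨c, hc0, by
      rw [eq_neg_of_add_eq_zero_right hzero, neg_sub]⟩)
  exact ⟨e' ≪≫ e''⟩

end GrothLib.KummerCov28
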