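import Groth.Agent.Lib.FunFld.Conorm
import Groth.Agent.Lib.FunFld.GenusZero
import Groth.Agent.Lib.FunFld.Embedding
import Groth.Agent.Lib.FunFld.Conseq

/-!
# A root of a function whose order is divisible by the exponent does not ramify
-/

set_option autoImplicit false
set_option linter.style.haveILetI false

universe u v

open _root_.FunFld GrothLib.FunFld WithZero Polynomial

noncomputable section

namespace GrothLib.KummerCov28

variable {k : Type u} [Field k] [IsAlgClosed k] {K K' : Type v} [Field K] [Field K'] [Algebra k K] [Algebra k K']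
  [Algebra K K'] [IsScalarTower k K K'] [FiniteDimensional K K']

omit [IsAlgClosed k] [FiniteDimensional K K'] [IsScalarTower k K K'] in
theorem exists_bound_eval_sub (Q : Place k K') {z : K'} (hz : val Q z ≤ 1) (G : K[X]) :
    ∃ B : ℤ, ∀ a : K, val Q (algebraMap K K' a) ≤ 1 →
      val Q (aeval z G - algebraMap K K' (G.eval a)) ≤ exp B * val Q (z - algebraMap K K' a) := by
  induction G using Polynomial.induction_on' with
  | add p q hp hq =>
    obtain ⟨B, hB⟩ := hp
    obtain ⟨B', hB'⟩ := hq
    refine ⟨max B B', fun a ha => ?_⟩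
    rw [map_add, eval_add, map_add, add_sub_add_comm]
    refine ((val Q).map_add _ _).trans (max_le ((hB a ha).trans ?_) ((hB' a ha).trans ?_))
    · exact mul_le_mul_left (exp_le_exp.2 (le_max_left _ _)) _
    · exact mul_le_mul_left (exp_le_exp.2 (le_max_right _ _)) _
  | monomial i c =>
    by_cases hc : algebraMap K K' c = 0
    · exact ⟨0, fun a _ => by simp [hc]⟩
    · refine ⟨-Q.ord (algebraMap K K' c), fun a ha => ?_⟩
      rw [aeval_monomial, eval_monomial, map_mul, map_pow, ← mul_sub, map_mul, FunFld.val_eq Q hc]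
      refine mul_le_mul_right ?_ _
      rw [← geom_sum₂_mul, map_mul]
      refine mul_le_of_le_one_left' ((val Q).map_sum_le fun j _ => ?_)
      rw [map_mul, map_pow, map_pow]
      exact mul_le_one' (pow_le_one₀ zero_le hz) (pow_le_one₀ zero_le ha)

/-- Where the order of `f` is divisible by the exponent, adjoining a root of `f` does not ramify. -/
theorem ramIdx_eq_one (h : FunFld.IsFG k K) {n : ℕ} (hn : (n : k) ≠ 0) {y : K'} {f : K} (hf0 : f ≠ 0)
    (hy : y ^ n = algebraMap K K' f) (hgen : ∀ x : K', ∃ G : K[X], aeval y G = x)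
    {Q : Place k K'} {P : Place k K} {e : ℕ} (he : IsOverWith Q P e) (hdiv : (n : ℤ) ∣ P.ord f) : e = 1 := by
  classical
  have hepos : 0 < e := FunFld.pos_of_isOverWith he
  have hn0 : n ≠ 0 := fun h0 => hn (by rw [h0, Nat.cast_zero])
  have h' : FunFld.IsFG k K' := FunFld.isFG_extension (K := K) h
  -- normalise the root
  obtain ⟨t, ht0, ht⟩ := FunFld.exists_val_eq P (-1)
  have htord : P.ord t = 1 := by rw [FunFld.ord_eq_of_val_eq P ht]; rfl
  obtain ⟨m, hm⟩ := hdiv
  set s := algebraMap K K' (t ^ m) with hs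
  have hs0 : s ≠ 0 := (_root_.map_ne_zero _).2 (zpow_ne_zero _ ht0)
  have htn : (t ^ m) ^ n ≠ 0 := pow_ne_zero _ (zpow_ne_zero _ ht0)
  set u := f / (t ^ m) ^ n with hu
  set z := y / s with hz
  have hu0 : u ≠ 0 := div_ne_zero hf0 htn
  have hzn : z ^ n = algebraMap K K' u := by rw [hz, hu, div_pow, hy, map_div₀, map_pow, hs]
  have huord : P.ord u = 0 := by
    have h1 : P.ord ((t ^ m) ^ n) + P.ord u = P.ord f := by
      rw [← FunFld.ord_mul P htn hu0, hu, mul_div_cancel₀ _ htn]
    rw [FunFld.ord_pow, FunFld.ord_zpow, htord, hm] at h1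
    linarith
  have hz0 : z ≠ 0 := fun h0 => by
    rw [h0, zero_pow hn0] at hzn
    exact hu0 ((map_eq_zero _).1 hzn.symm)
  have hzord : Q.ord z = 0 := by
    have h1 := congrArg Q.ord hzn
    rw [FunFld.ord_pow, FunFld.ord_of_isOverWith he, huord, mul_zero] at h1
    exact (mul_eq_zero.1 h1).resolve_left (by exact_mod_cast hn0)
  have hzle : val Q z ≤ 1 := (FunFld.val_le_one_iff Q hz0).2 hzord.ge
  obtain ⟨c, hc⟩ := FunFld.exists_residue h' Q hzle
  have hc0 : c ≠ 0 := fun h0 => by
    rw [h0, map_zero, sub_zero, FunFld.val_lt_one_iff Q hz0, hzord] at hc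
    exact lt_irrefl _ hc
  -- approximations of the root by functions from below
  have happrox : ∀ N : ℕ, ∃ a : K, val Q (algebraMap K K' a - algebraMap k K' c) < 1 ∧
      val Q (z - algebraMap K K' a) ≤ exp (-(N : ℤ)) := by
    intro N
    induction N with
    | zero =>
      refine ⟨algebraMap k K c, ?_, ?_⟩
      · rw [← IsScalarTower.algebraMap_apply, sub_self, map_zero]; exact zero_lt_one
      · rw [← IsScalarTower.algebraMap_apply, Nat.cast_zero, neg_zero, exp_zero]; exact hc.le
    | succ N ih =>
      obtain ⟨a, hac, hza⟩ := ih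
      set a' := algebraMap K K' a with ha'
      set w := z - a' with hw
      rcases eq_or_ne w 0 with hw0 | hw0
      · exact ⟨a, hac, by rw [← hw, hw0, map_zero]; exact zero_le⟩
      by_cases hbig : val Q w ≤ exp (-((N + 1 : ℕ) : ℤ))
      · exact ⟨a, hac, hbig⟩
      have hale : val Q a' ≤ 1 := by
        rw [← sub_add_cancel a' (algebraMap k K' c)]
        exact ((val Q).map_add _ _).trans (max_le hac.le (FunFld.val_le_one_of_const Q c))
      set S := ∑ i ∈ Finset.range n, z ^ i * a' ^ (n - 1 - i) with hS
      have hSn : S * w = algebraMap K K' (u - a ^ n) := by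
        rw [hS, hw, geom_sum₂_mul, hzn, map_sub, map_pow, ha']
      let zO : Q.O := ⟨z, hzle⟩
      let aO : Q.O := ⟨a', hale⟩
      have hres : ∀ (x : Q.O), val Q ((x : K') - algebraMap k K' c) < 1 →
          FunFld.res Q x = algebraMap k _ c := by
        intro x hx
        have h2 : FunFld.res Q (x - algebraMap k Q.O c) = 0 := (FunFld.res_eq_zero_iff Q _).2 hx
        rwa [map_sub, AlgHom.commutes, sub_eq_zero] at h2
      have hSv : val Q S = 1 := by
        let SO : Q.O := ∑ i ∈ Finset.range n, zO ^ i * aO ^ (n - 1 - i)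
        have hSO : (SO : K') = S := by
          simp only [SO, hS, AddSubmonoidClass.coe_finset_sum, MulMemClass.coe_mul, SubmonoidClass.coe_pow]
          rfl
        have h2 : FunFld.res Q SO = algebraMap k _ ((n : k) * c ^ (n - 1)) := by
          simp only [SO, map_sum, map_mul, map_pow, hres zO hc, hres aO hac]
          rw [Finset.sum_congr rfl fun i hi => ?_, Finset.sum_const, Finset.card_range, nsmul_eq_mul,
            map_natCast]
          rw [← pow_add]
          congr 1
          rw [Finset.mem_range] at hi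
          omega
        refine le_antisymm (hSO ▸ SO.2) (not_lt.1 fun hlt => ?_)
        rw [← hSO, ← FunFld.res_eq_zero_iff, h2, map_eq_zero] at hlt
        exact mul_ne_zero hn (pow_ne_zero _ hc0) hlt
      have hS0 : S ≠ 0 := fun h0 => by rw [h0, map_zero] at hSv; exact zero_ne_one hSv
      have hSord : Q.ord S = 0 := by
        rw [FunFld.ord_eq_of_val_eq Q (n := 0) (by rw [hSv, exp_zero])]; rfl
      obtain ⟨j, hj⟩ : ∃ j : ℤ, Q.ord w = e * j := ⟨P.ord (u - a ^ n), by
        rw [← FunFld.ord_of_isOverWith he, ← hSn, FunFld.ord_mul Q hS0 hw0, hSord, zero_add]⟩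
      have hwN : (N : ℤ) ≤ Q.ord w := by
        rw [FunFld.val_eq Q hw0, exp_le_exp] at hza; omega
      have hwN' : Q.ord w < (N : ℤ) + 1 := by
        rw [FunFld.val_eq Q hw0, exp_le_exp] at hbig; push_cast at hbig; omega
      have hwpos : 0 < Q.ord w := by
        refine (FunFld.val_lt_one_iff Q hw0).1 ?_
        rw [hw, show z - a' = (z - algebraMap k K' c) - (a' - algebraMap k K' c) by ring]
        exact lt_of_le_of_lt ((val Q).map_sub _ _) (max_lt hc hac)
      set T := algebraMap K K' (t ^ j) with hT
      have hT0 : T ≠ 0 := (_root_.map_ne_zero _).2 (zpow_ne_zero _ ht0)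
      have hTord : Q.ord T = Q.ord w := by
        rw [hT, FunFld.ord_of_isOverWith he, FunFld.ord_zpow, htord, mul_one, hj]
      have hTv : val Q T = val Q w := by rw [FunFld.val_eq Q hT0, FunFld.val_eq Q hw0, hTord]
      have hq : val Q (w / T) ≤ 1 := by
        rw [map_div₀, hTv, div_self ((val Q).ne_zero_iff.2 hw0)]
      obtain ⟨b, hb⟩ := FunFld.exists_residue h' Q hq
      refine ⟨a + algebraMap k K b * t ^ j, ?_, ?_⟩
      · rw [map_add, map_mul, ← ha', ← hT, ← IsScalarTower.algebraMap_apply, add_sub_right_comm]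
        refine ((val Q).map_add _ _).trans_lt (max_lt hac ?_)
        rw [map_mul, hTv]
        exact (mul_le_of_le_one_left' (FunFld.val_le_one_of_const Q b)).trans_lt
          ((FunFld.val_lt_one_iff Q hw0).2 hwpos)
      · have heq : z - algebraMap K K' (a + algebraMap k K b * t ^ j) = T * (w / T - algebraMap k K' b) := by
          rw [map_add, map_mul, ← ha', ← hT, ← IsScalarTower.algebraMap_apply, mul_sub, mul_div_cancel₀ _ hT0,
            hw]
          ring
        rw [heq, map_mul, hTv, FunFld.val_eq Q hw0]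
        rcases eq_or_ne (w / T - algebraMap k K' b) 0 with h0 | h0
        · rw [h0, map_zero, mul_zero]; exact zero_le
        · have h2 := (FunFld.val_lt_one_iff Q h0).1 hb
          rw [FunFld.val_eq Q h0, ← exp_add, exp_le_exp]
          push_cast
          omega
  -- every order is a multiple of `e`
  obtain ⟨x, hx0, hx⟩ := FunFld.exists_val_eq Q (-1)
  obtain ⟨G, hG⟩ := hgen x
  set G' := G.comp (C (t ^ m) * X) with hG'
  have hGz : aeval z G' = x := by
    rw [hG', aeval_comp, map_mul, aeval_C, aeval_X, ← hs, hz, mul_div_cancel₀ _ hs0, hG]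
  obtain ⟨B, hB⟩ := exists_bound_eval_sub Q hzle G'
  obtain ⟨a, hac, haN⟩ := happrox (B + 2).toNat
  have hale : val Q (algebraMap K K' a) ≤ 1 := by
    rw [← sub_add_cancel (algebraMap K K' a) (algebraMap k K' c)]
    exact ((val Q).map_add _ _).trans (max_le hac.le (FunFld.val_le_one_of_const Q c))
  have hlt : val Q (x - algebraMap K K' (G'.eval a)) < val Q x := by
    rw [← hGz]
    refine (hB a hale).trans_lt ?_
    rw [hGz, hx]
    refine (mul_le_mul_right haN _).trans_lt ?_
    rw [← exp_add, exp_lt_exp]
    have := Int.self_le_toNat (B + 2)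
    omega
  have heq : val Q (algebraMap K K' (G'.eval a)) = val Q x := by
    rw [show algebraMap K K' (G'.eval a) = x - (x - algebraMap K K' (G'.eval a)) by ring]
    exact Valuation.map_sub_eq_of_lt_left (val Q) hlt
  have hord : Q.ord (algebraMap K K' (G'.eval a)) = 1 := by
    rw [FunFld.ord_eq_of_val_eq Q (heq.trans hx)]; rfl
  rw [FunFld.ord_of_isOverWith he] at hord
  have := Int.eq_one_of_mul_eq_one_right (Int.natCast_nonneg e) hord
  exact_mod_cast this

end GrothLib.KummerCov28
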