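import Groth.Agent.Lib.KummerCov28.Field
import Groth.Agent.Lib.KummerCov28.Pull
import Groth.Agent.Lib.CompleteCurve.Main
import Groth.Agent.Lib.CurveMult.Compactify
import Groth.Agent.Lib.CurveMult.NormalRat
import Groth.Agent.Lib.CurveMult.FFHom
import Groth.Agent.Lib.DVRExt.Ramification
import Groth.Agent.Lib.Adj27.Variety
import Groth.Agent.Lib.FunFld.Separating
import Groth.Agent.Lib.LocProp.Stalk
import Groth.Agent.S0219

/-!
# A cover unramified over given points on which a module of positive degree acquires a section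
-/

set_option autoImplicit false
set_option maxHeartbeats 1600000
set_option linter.style.haveILetI false
set_option backward.isDefEq.respectTransparency false

universe u

open CategoryTheory CategoryTheory.Limits AlgebraicGeometry TopologicalSpace WithZero Polynomial
open GrothLib GrothLib.CurveRR GrothLib.CurveMult

noncomputable section

namespace GrothLib.KummerCov28

open _root_.FunFld in
/-- A function whose divisor is divisible by a prime-to-`p` exponent at given places. -/
theorem exists_function {k K : Type u} [Field k] [IsAlgClosed k] [Field K] [Algebra k K]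
    (hK : IsFunctionField k K) (D : Divisor k K) (hD : 0 < D.deg) (T : Finset (Place k K)) :
    ∃ (n : ℕ) (f : K), (n : k) ≠ 0 ∧ f ≠ 0 ∧ f ∈ L (n • D) ∧ ∀ P ∈ T, P.ord f = -((n : ℤ) * D P) := by
  classical
  have h : FunFld.IsFG k K := hK.1
  obtain ⟨n, hn, hnge⟩ : ∃ n : ℕ, (n : k) ≠ 0 ∧ 2 * genus k K + 1 ≤ n := by
    by_cases h0 : ((2 * genus k K + 1 : ℕ) : k) = 0
    · exact ⟨2 * genus k K + 1 + 1, by rw [Nat.cast_add, h0, Nat.cast_one, zero_add]; exact one_ne_zero, by omega⟩
    · exact ⟨_, h0, le_rfl⟩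
  have hdeg : (2 * genus k K + 1 : ℤ) ≤ (n • D).deg := by
    have h1 : (n • D).deg = n * D.deg := by
      clear hnge hn
      induction n with
      | zero => simp [FunFld.deg_zero]
      | succ m ih => rw [succ_nsmul, FunFld.deg_add, ih]; push_cast; ring
    rw [h1]
    have h2 : ((2 * genus k K + 1 : ℕ) : ℤ) ≤ (n : ℤ) := by exact_mod_cast hnge
    push_cast at h2
    nlinarith
  obtain ⟨P₀⟩ := FunFld.IsFG.exists_place h
  let p : {P // P ∈ insert P₀ T} → Submodule k (L (n • D)) := fun P =>
    (L (n • D - Finsupp.single P.1 1)).comap (L (n • D)).subtype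
  have hne : ∀ P, p P ≠ ⊤ := fun P htop => by
    have hd : (n • D - Finsupp.single P.1 1).deg = (n • D).deg - 1 := by
      rw [FunFld.deg_sub, FunFld.deg_single, FunFld.IsFG.deg_eq_one h]; simp
    have h1 := FunFld.ell_eq_of_deg_ge hK (D := n • D) (by omega)
    have h2 := FunFld.ell_eq_of_deg_ge hK (D := n • D - Finsupp.single P.1 1) (by omega)
    have h3 : L (n • D) = L (n • D - Finsupp.single P.1 1) :=
      le_antisymm (fun x hx => Submodule.eq_top_iff'.1 htop ⟨x, hx⟩)
        (FunFld.L_mono (sub_le_self _ (Finsupp.single_nonneg.2 zero_le_one)))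
    simp only [ell] at h1 h2
    rw [h3, h2] at h1
    omega
  obtain ⟨⟨f, hf⟩, hfn⟩ := Submodule.exists_forall_notMem_of_forall_ne_top p hne
  have hf0 : f ≠ 0 := fun h0 => hfn ⟨P₀, Finset.mem_insert_self _ _⟩ (by
    show f ∈ L _
    rw [h0]; exact zero_mem _)
  refine ⟨n, f, hn, hf0, hf, fun P hP => ?_⟩
  have hl := (FunFld.mem_L_iff_ord hf0).1 hf
  have hnot := hfn ⟨P, Finset.mem_insert_of_mem hP⟩
  change f ∉ L _ at hnot
  rw [FunFld.mem_L_iff_ord hf0] at hnot
  push Not at hnot
  obtain ⟨R, hR⟩ := hnot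
  have hRP : R = P := by
    by_contra hRP
    have := hl R
    simp only [Finsupp.sub_apply, Finsupp.single_eq_of_ne hRP] at hR
    omega
  subst hRP
  have h1 := hl R
  simp only [Finsupp.sub_apply, Finsupp.single_eq_same, Finsupp.smul_apply, nsmul_eq_mul] at hR h1
  omega

variable (k : Type u) [Field k] [IsAlgClosed k] {C : Scheme.{u}} [IsIntegral C] [RegCurve C]
  [C.Over (Spec (CommRingCat.of k))] [IsProper (C ↘ Spec (CommRingCat.of k))]

omit [IsProper (C ↘ Spec (CommRingCat.of k))] in
/-- A place unramified over the base gives a formally unramified stalk map. -/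
theorem formallyUnramified_stalk {X : Scheme.{u}} [IsIntegral X] [RegCurve X]
    [X.Over (Spec (CommRingCat.of k))] [IsProper (X ↘ Spec (CommRingCat.of k))] {f : X ⟶ C} [IsFinite f]
    (hη : f (genericPoint X) = genericPoint C) (hf : f ≫ (C ↘ Spec (CommRingCat.of k)) = X ↘ Spec (CommRingCat.of k))
    (x : CP X) (h1 : Hurwitz.ramIdxAt (f := f) x.1 = 1) : (f.stalkMap x.1).hom.FormallyUnramified := by
  have he := LocallyOfFiniteType.stalkMap f x.1
  algebraize [(f.stalkMap x.1).hom]
  haveI := dvrStalk (X := C) ⟨f x.1, Hurwitz.ne_genericPoint x.2⟩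
  haveI := dvrStalk x
  haveI : IsLocalHom (algebraMap (C.presheaf.stalk (f x.1)) (X.presheaf.stalk x.1)) :=
    inferInstanceAs (IsLocalHom (f.stalkMap x.1).hom)
  have hinj : Function.Injective (algebraMap (C.presheaf.stalk (f x.1)) (X.presheaf.stalk x.1)) :=
    CurvePoints.stalkMap_injective f hη x.1
  haveI : Module.IsTorsionFree (C.presheaf.stalk (f x.1)) (X.presheaf.stalk x.1) :=
    Module.isTorsionFree_iff_algebraMap_injective.2 hinj
  have hmap := (DVRExt.map_maximalIdeal_eq_pow hinj).2
  rw [Ideal.ramificationIdx'_eq_ramificationIdx _ _ (IsDiscreteValuationRing.not_a_field _)] at hmap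
  rw [show Ideal.ramificationIdx (IsLocalRing.maximalIdeal (X.presheaf.stalk x.1)) (C.presheaf.stalk (f x.1)) = 1
    from h1, pow_one] at hmap
  have hsurj : Function.Surjective (algebraMap (IsLocalRing.ResidueField (C.presheaf.stalk (f x.1)))
      (IsLocalRing.ResidueField (X.presheaf.stalk x.1))) := fun z => by
    letI := Curv2.resAlgebra k X x.1
    have hone : Module.finrank k (X.residueField x.1) = 1 := by
      rw [Hurwitz.finrank_residueField (k := k) x]; exact deg_place_eq_one k _
    obtain ⟨c, hc⟩ := (finrank_eq_one_iff_of_nonzero' (1 : X.residueField x.1) one_ne_zero).1 hone z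
    refine ⟨(C.residue (f x.1)).hom (cst k (f x.1) c), ?_⟩
    rw [← hc, Algebra.smul_def, mul_one]
    show (X.residue x.1).hom ((f.stalkMap x.1).hom (cst k (f x.1) c)) = (X.residue x.1).hom (cst k x.1 c)
    rw [Hurwitz.cst_compat k hf]
  haveI : Algebra.IsSeparable (IsLocalRing.ResidueField (C.presheaf.stalk (f x.1)))
      (IsLocalRing.ResidueField (X.presheaf.stalk x.1)) :=
    ⟨fun z => by obtain ⟨a, rfl⟩ := hsurj z; exact isSeparable_algebraMap a⟩
  exact Algebra.FormallyUnramified.of_map_maximalIdeal hmap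

open _root_.FunFld in
theorem exists_cover (h0 : Module.finrank k (Coh.HH C (Coh.structureModule C) 0) = 1)
    (E : C.Modules) (hE : PicF.IsInvertible E) (hdeg : 0 < Curv2.deg k C E 1) (T : Set C) (hT : T.Finite) :
    ∃ (X : Scheme.{u}) (_ : X.Over (Spec (CommRingCat.of k))) (ψ : X ⟶ C),
      IsProper (X ↘ (Spec (CommRingCat.of k))) ∧ Smooth (X ↘ (Spec (CommRingCat.of k))) ∧ IsIntegral X ∧ topologicalKrullDim X = 1 ∧
      ψ.IsOver (Spec (CommRingCat.of k)) ∧ IsFinite ψ ∧
      (∃ U : X.Opens, (U : Set X).Nonempty ∧ FormallyUnramified (U.ι ≫ ψ)) ∧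
      (∀ c : X, ψ.base c ∈ T → ∃ U : X.Opens, c ∈ U ∧ FormallyUnramified (U.ι ≫ ψ)) ∧
      Nontrivial (Coh.HH X ((Scheme.Modules.pullback ψ).obj E) 0) := by
  classical
  haveI := Euler.isNoetherian_of_proper (X := C) k
  obtain ⟨D, ⟨eE⟩⟩ := exists_iso_oD k hE
  have hD : 0 < D.deg := by rwa [← deg_oD D, ← Euler.deg_of_iso k eE 1]
  have hK := CurveRR.isFunctionField k h0
  have hfg : FunFld.IsFG k C.functionField := hK.1
  obtain ⟨P₀⟩ := FunFld.IsFG.exists_place hfg
  obtain ⟨x₀, rfl⟩ := place_surjective (k := k) (X := C) P₀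
  have hTf : {x : CP C | x.1 ∈ T ∨ x = x₀}.Finite :=
    ((hT.preimage Subtype.val_injective.injOn).union (Set.finite_singleton x₀)).subset fun x hx => hx
  obtain ⟨n, f, hn, hf0, hfL, hfT⟩ := exists_function hK D hD (hTf.toFinset.image (place k))
  have hn0 : n ≠ 0 := fun h => hn (by rw [h, Nat.cast_zero])
  -- the extension
  obtain ⟨q, hq, hqd⟩ := WfDvdMonoid.exists_irreducible_factor (a := (X ^ n - Polynomial.C f : C.functionField[X]))
    (fun hu => by
      have := natDegree_eq_zero_of_isUnit hu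
      rw [natDegree_X_pow_sub_C] at this
      exact hn0 this)
    (X_pow_sub_C_ne_zero (Nat.pos_of_ne_zero hn0) f)
  haveI : Fact (Irreducible q) := ⟨hq⟩
  let K' := AdjoinRoot q
  haveI : FiniteDimensional C.functionField K' := (AdjoinRoot.powerBasis hq.ne_zero).finite
  let y : K' := AdjoinRoot.root q
  have hy : y ^ n = algebraMap C.functionField K' f := by
    obtain ⟨r, hr⟩ := hqd
    have h1 : aeval y (X ^ n - Polynomial.C f) = 0 := by
      rw [hr, map_mul, show aeval y q = 0 by rw [AdjoinRoot.aeval_eq, AdjoinRoot.mk_self], zero_mul]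
    rwa [map_sub, map_pow, aeval_X, aeval_C, sub_eq_zero] at h1
  have hfgK' : FunFld.IsFG k K' := FunFld.isFG_extension (K := C.functionField) hfg
  haveI := FunFld.IsFG.essFiniteType hfgK'
  have htr : Algebra.trdeg k K' = 1 := by
    obtain ⟨m, hm, hmt⟩ := exists_dim_eq_trdeg k (X := C)
    have hm1 : m = 1 := by
      have := (RegCurve.dim (X := C)).symm.trans hm
      exact_mod_cast this.symm
    haveI : FaithfulSMul k C.functionField :=
      (faithfulSMul_iff_algebraMap_injective _ _).2 (algebraMap k C.functionField).injective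
    haveI : FaithfulSMul C.functionField K' :=
      (faithfulSMul_iff_algebraMap_injective _ _).2 (algebraMap C.functionField K').injective
    rw [← trdeg_add_eq k C.functionField (A := K'), hmt, trdeg_eq_zero, hm1, Nat.cast_one, add_zero]
  obtain ⟨X, hXo, hXi, hXp, hXn, -, e, he⟩ := CompleteCurve.exists_curve
    (IntermediateField.fg_top k K') htr
  letI := hXo
  haveI := hXi
  haveI := hXp
  haveI : IsLocallyNoetherian X := LocallyOfFiniteType.isLocallyNoetherian (X ↘ Spec (CommRingCat.of k))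
  let ea : X.functionField ≃+* K' := e
  have hea : ∀ c : k, ea (algebraMap k X.functionField c) = algebraMap k K' c := he
  have hdX : topologicalKrullDim X = 1 := by
    obtain ⟨m, hm, hmt⟩ := exists_dim_eq_trdeg k (X := X)
    have : Algebra.trdeg k X.functionField = (1 : ℕ) := by
      rw [(AlgEquiv.ofRingEquiv (f := ea) hea).trdeg_eq, htr, Nat.cast_one]
    rw [hmt] at this
    rw [hm, show m = 1 from by exact_mod_cast this]
    rfl
  haveI := regCurve_of_normal hXn hdX
  have hXreg : ∀ x : X, IsRegularLocalRing (X.presheaf.stalk x) := fun x => by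
    by_cases hx : x = genericPoint X
    · subst hx
      exact inferInstanceAs (IsRegularLocalRing X.functionField)
    · haveI := dvrStalk (⟨x, hx⟩ : CP X)
      infer_instance
  have hsm : Smooth (X ↘ Spec (CommRingCat.of k)) := Adj27.smooth_of_regular _ hXreg
  let φ : C.functionField →+* X.functionField := ea.symm.toRingHom.comp (algebraMap C.functionField K')
  obtain ⟨ψ, hψ, hη, hψφ⟩ := FFHom.exists_hom k (X := X) (Y := C) φ fun c => by
    apply ea.injective
    show ea (ea.symm (algebraMap C.functionField K' (algebraMap k C.functionField c))) = _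
    rw [ea.apply_symm_apply, hea, ← IsScalarTower.algebraMap_apply]
  haveI : IsProper (ψ ≫ (C ↘ Spec (CommRingCat.of k))) := by rw [hψ]; infer_instance
  haveI : IsProper ψ := IsProper.of_comp ψ (C ↘ Spec (CommRingCat.of k))
  have hsurj : Function.Surjective ψ := by
    intro z
    have hc : IsClosed (Set.range ψ) := ψ.isClosedMap.isClosed_range
    have : (genericPoint C) ∈ Set.range ψ := ⟨_, hη⟩
    exact (hc.closure_eq ▸ closure_mono (Set.singleton_subset_iff.2 this)
      ((genericPoint_spec C).symm ▸ Set.mem_univ z) :)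
  haveI : IsFinite ψ := by
    refine Groth.Agent.S0219.result k X C (X ↘ Spec (CommRingCat.of k)) (C ↘ Spec (CommRingCat.of k)) ψ hψ hdX.le
      fun Z hZ _ => ?_
    rw [irreducibleComponents_eq_singleton, Set.mem_singleton_iff] at hZ
    subst hZ
    rw [Set.image_univ, hsurj.range_eq]
    exact ⟨genericPoint C, trivial, x₀.1, trivial, Ne.symm x₀.2⟩
  letI := (Hurwitz.ψ hη).toAlgebra
  haveI : IsScalarTower k C.functionField X.functionField :=
    .of_algebraMap_eq fun c => (Hurwitz.ψ_algebraMap k hη hψ c).symm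
  haveI := Hurwitz.finiteDimensional k hη hψ
  have halg : ∀ z, algebraMap C.functionField X.functionField z = ea.symm (algebraMap C.functionField K' z) :=
    fun z => RingHom.congr_fun hψφ z
  let y' : X.functionField := ea.symm y
  have hy' : y' ^ n = algebraMap C.functionField X.functionField f := by
    rw [halg, ← hy, map_pow]
  have hgen : ∀ z : X.functionField, ∃ G : C.functionField[X], aeval y' G = z := fun z => by
    obtain ⟨G, hG⟩ := AdjoinRoot.mk_surjective (ea z)
    refine ⟨G, ?_⟩
    rw [← ea.symm_apply_apply z, ← hG, ← AdjoinRoot.aeval_eq, aeval_def, aeval_def]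
    exact (congrArg (fun χ => eval₂ χ y' G) (RingHom.ext halg)).trans
      (hom_eval₂ G (algebraMap C.functionField K') ea.symm.toRingHom y).symm
  have hunr : ∀ x : CP X, (⟨ψ x.1, Hurwitz.ne_genericPoint x.2⟩ : CP C) ∈ hTf.toFinset →
      ∃ U : X.Opens, x.1 ∈ U ∧ FormallyUnramified (U.ι ≫ ψ) := by
    intro x hx
    have h1 := hfT (place k (⟨ψ x.1, Hurwitz.ne_genericPoint x.2⟩ : CP C)) (Finset.mem_image_of_mem _ hx)
    have he1 := ramIdx_eq_one hfg hn hf0 hy' hgen (Hurwitz.isOverWith_place k hη hψ x)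
      ⟨-(D (place k (⟨ψ x.1, Hurwitz.ne_genericPoint x.2⟩ : CP C))), by rw [h1]; ring⟩
    exact (LocProp.formallyUnramified_nhd_iff ψ x.1).2 (formallyUnramified_stalk k hη hψ x he1)
  obtain ⟨x₁, hx₁⟩ := hsurj x₀.1
  have hx₁η : x₁ ≠ genericPoint X := fun h => x₀.2 (by rw [← hx₁, h, hη])
  obtain ⟨U₀, hxU₀, hU₀⟩ := hunr ⟨x₁, hx₁η⟩ (hTf.mem_toFinset.2 (Or.inr (Subtype.ext hx₁)))
  refine ⟨X, hXo, ψ, hXp, hsm, hXi, hdX, ⟨hψ⟩, inferInstance, ⟨U₀, ⟨x₁, hxU₀⟩, hU₀⟩, fun c hc => ?_, ?_⟩
  · by_cases hcη : c = genericPoint X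
    · exact ⟨U₀, hcη ▸ ((genericPoint_spec X).specializes trivial).mem_open U₀.isOpen hxU₀, hU₀⟩
    · exact hunr ⟨c, hcη⟩ (hTf.mem_toFinset.2 (Or.inl hc))
  -- the section
  obtain ⟨e₁⟩ := nonempty_pullback_iso k hη hψ D
  have hfgX := isFG k (X := X)
  have hy0 : y' ≠ 0 := fun h => by
    rw [h, zero_pow hn0] at hy'
    exact hf0 ((map_eq_zero _).1 hy'.symm)
  have hmem : y' ∈ _root_.FunFld.L (_root_.FunFld.conorm X.functionField D) := by
    refine (FunFld.mem_L_iff_ord hy0).2 fun Q => ?_
    obtain ⟨P, e', hpos, hQ⟩ := FunFld.exists_isOverWith (K := C.functionField) Q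
    rw [FunFld.conorm_apply hfg hQ]
    have h1 := congrArg Q.ord hy'
    rw [FunFld.ord_pow, FunFld.ord_of_isOverWith hQ] at h1
    have h2 := (FunFld.mem_L_iff_ord hf0).1 hfL P
    rw [Finsupp.smul_apply, nsmul_eq_mul] at h2
    refine le_of_mul_le_mul_left ?_ (show (0 : ℤ) < n by exact_mod_cast Nat.pos_of_ne_zero hn0)
    rw [mul_zero, mul_add, h1]
    have h3 := mul_le_mul_of_nonneg_left h2 (Int.natCast_nonneg e')
    linarith
  haveI := FunFld.IsFG.finite_L hfgX (_root_.FunFld.conorm X.functionField D)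
  haveI : Nontrivial (_root_.FunFld.L (_root_.FunFld.conorm X.functionField D)) :=
    ⟨⟨⟨y', hmem⟩, 0, fun h => hy0 (congrArg Subtype.val h)⟩⟩
  haveI := (H0equiv k (_root_.FunFld.conorm X.functionField D)).toEquiv.nontrivial
  exact (Euler.hhEquiv (A := k) ((Scheme.Modules.pullback ψ).mapIso eE ≪≫ e₁) 0).toEquiv.nontrivial

end GrothLib.KummerCov28
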